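import Cfsg.Agent.SLComm.Cyclic
import Mathlib.Data.ZMod.Basic
import Mathlib.Algebra.Field.ZMod

/-!
The three-dimensional base of the commutator recursion over the fields with two and three elements
(owner: helper16): a finite verification with explicit witnesses.
-/

set_option autoImplicit false

namespace Cfsg.Agent.SLComm

/-- A three by three matrix, row by row. -/
@[ext] structure M3 (R : Type*) where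
  (a b c d e f g h i : R)
deriving DecidableEq

namespace M3

variable {R : Type*} [CommRing R]

def mul (x y : M3 R) : M3 R :=
  ⟨x.a * y.a + x.b * y.d + x.c * y.g, x.a * y.b + x.b * y.e + x.c * y.h, x.a * y.c + x.b * y.f + x.c * y.i,
    x.d * y.a + x.e * y.d + x.f * y.g, x.d * y.b + x.e * y.e + x.f * y.h, x.d * y.c + x.e * y.f + x.f * y.i,
    x.g * y.a + x.h * y.d + x.i * y.g, x.g * y.b + x.h * y.e + x.i * y.h, x.g * y.c + x.h * y.f + x.i * y.i⟩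

def addOne (x : M3 R) : M3 R := ⟨x.a + 1, x.b, x.c, x.d, x.e + 1, x.f, x.g, x.h, x.i + 1⟩

def det (x : M3 R) : R :=
  x.a * (x.e * x.i - x.f * x.h) - x.b * (x.d * x.i - x.f * x.g) + x.c * (x.d * x.h - x.e * x.g)

def adj (x : M3 R) : M3 R :=
  ⟨x.e * x.i - x.f * x.h, x.c * x.h - x.b * x.i, x.b * x.f - x.c * x.e,
    x.f * x.g - x.d * x.i, x.a * x.i - x.c * x.g, x.c * x.d - x.a * x.f,
    x.d * x.h - x.e * x.g, x.b * x.g - x.a * x.h, x.a * x.e - x.b * x.d⟩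

/-- `x ^ 3 = x + 1`. -/
def IsRt (x : M3 R) : Prop := mul (mul x x) x = addOne x

instance instDecidableIsRt [DecidableEq R] (x : M3 R) : Decidable (IsRt x) :=
  inferInstanceAs (Decidable (_ = _))

/-- All two by two minors of `x - 1` vanish. -/
def SmallRank (x : M3 R) : Prop :=
  (x.a - 1) * (x.e - 1) = x.b * x.d ∧ (x.a - 1) * x.f = x.c * x.d ∧ x.b * x.f = x.c * (x.e - 1) ∧
  (x.a - 1) * x.h = x.b * x.g ∧ (x.a - 1) * (x.i - 1) = x.c * x.g ∧ x.b * (x.i - 1) = x.c * x.h ∧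
  x.d * x.h = (x.e - 1) * x.g ∧ x.d * (x.i - 1) = x.f * x.g ∧ (x.e - 1) * (x.i - 1) = x.f * x.h

instance instDecidableSmallRank [DecidableEq R] (x : M3 R) : Decidable (SmallRank x) :=
  inferInstanceAs (Decidable (_ ∧ _))

/-- The shape with second basis vector the image of the first. -/
def shape (b α a β d γ : R) : M3 R := ⟨0, b, α, 1, a, β, 0, d, γ⟩

/-- There is a witness. -/
def HasWit (x : M3 R) : Prop := ∃ T : M3 R, IsRt T ∧ IsRt (mul (adj x) T)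

end M3

def wit2 : List (M3 (ZMod 2)) :=
  [ ⟨0, 0, 1, 0, 1, 1, 1, 1, 1⟩, ⟨0, 1, 0, 1, 0, 1, 1, 0, 0⟩, ⟨0, 1, 1, 1, 1, 1, 1, 0, 1⟩,
    ⟨1, 1, 0, 0, 0, 1, 1, 0, 1⟩, ⟨0, 1, 0, 0, 1, 1, 1, 0, 1⟩, ⟨1, 1, 1, 1, 0, 0, 1, 0, 1⟩,
    ⟨0, 1, 1, 0, 0, 1, 1, 0, 0⟩, ⟨1, 1, 0, 0, 1, 1, 1, 0, 0⟩, ⟨1, 1, 1, 1, 1, 0, 1, 0, 0⟩ ]

def wit3 : List (M3 (ZMod 3)) :=
  [ ⟨0, 0, 1, 0, 1, 1, 2, 1, 2⟩, ⟨0, 0, 2, 0, 1, 2, 1, 2, 2⟩, ⟨0, 2, 0, 0, 2, 1, 2, 0, 1⟩,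
    ⟨1, 1, 0, 2, 2, 1, 2, 1, 0⟩, ⟨0, 1, 1, 0, 1, 2, 1, 1, 2⟩, ⟨2, 1, 0, 1, 1, 1, 2, 2, 0⟩,
    ⟨0, 1, 1, 2, 1, 0, 1, 0, 2⟩, ⟨1, 1, 0, 0, 2, 2, 2, 0, 0⟩, ⟨1, 2, 2, 2, 0, 2, 2, 2, 2⟩,
    ⟨0, 1, 0, 1, 0, 1, 1, 0, 0⟩, ⟨0, 2, 1, 0, 1, 1, 1, 2, 2⟩, ⟨0, 2, 1, 2, 2, 1, 1, 1, 1⟩,
    ⟨0, 1, 2, 0, 0, 1, 1, 2, 0⟩, ⟨1, 0, 2, 1, 1, 0, 2, 2, 1⟩, ⟨0, 0, 2, 1, 2, 1, 1, 1, 1⟩,
    ⟨0, 1, 2, 1, 2, 0, 1, 0, 1⟩, ⟨0, 0, 1, 0, 2, 2, 1, 1, 1⟩, ⟨0, 1, 1, 2, 0, 2, 2, 0, 0⟩,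
    ⟨0, 2, 2, 1, 0, 0, 1, 2, 0⟩, ⟨1, 0, 1, 2, 2, 0, 0, 2, 0⟩, ⟨1, 0, 2, 0, 0, 2, 2, 1, 2⟩,
    ⟨0, 0, 2, 0, 1, 1, 1, 1, 2⟩, ⟨0, 1, 0, 1, 2, 1, 2, 2, 1⟩, ⟨0, 1, 2, 2, 0, 0, 1, 1, 0⟩ ]

set_option maxHeartbeats 4000000 in
theorem check2 : ∀ b α a β d γ : ZMod 2, M3.det (M3.shape b α a β d γ) = 1 →
    ¬ M3.SmallRank (M3.shape b α a β d γ) →
    ∃ T ∈ wit2, M3.IsRt T ∧ M3.IsRt (M3.mul (M3.adj (M3.shape b α a β d γ)) T) := by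
  decide +kernel

set_option maxHeartbeats 4000000 in
theorem check3 : ∀ b α a β d γ : ZMod 3, M3.det (M3.shape b α a β d γ) = 1 →
    ¬ M3.SmallRank (M3.shape b α a β d γ) →
    ∃ T ∈ wit3, M3.IsRt T ∧ M3.IsRt (M3.mul (M3.adj (M3.shape b α a β d γ)) T) := by
  decide +kernel

end Cfsg.Agent.SLComm
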